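import Cfsg.Agent.FT.Base
import Cfsg.Agent.Cop.MinAct
import Cfsg.Agent.Transfer.Frobenius
import Cfsg.Agent.H67.OddReal
import Cfsg.Agent.H80.BrauerFowler

/-! Groups all of whose real 2-elements are central are 2-nilpotent. -/

set_option autoImplicit false

open scoped commutatorElement Pointwise

namespace Cfsg.Agent.FT

open Cfsg.Agent Subgroup

/-- class two calculus -/
theorem ct_sq_mul {G : Type*} [Group G] {r s : G} (hcr : Commute ⁅s, r⁆ r) (hcs : Commute ⁅s, r⁆ s) :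
    (r * s) ^ 2 = r ^ 2 * s ^ 2 * ⁅s, r⁆ := by
  set c := ⁅s, r⁆ with hc
  have h1 : s * r = c * (r * s) := by
    rw [hc, commutatorElement_def]; group
  have h2 : c * r = r * c := hcr
  have h3 : c * s = s * c := hcs
  calc (r * s) ^ 2 = r * (s * r) * s := by rw [pow_two]; group
    _ = r * (c * (r * s)) * s := by rw [h1]
    _ = r * ((c * r) * s) * s := by group
    _ = r * ((r * c) * s) * s := by rw [h2]
    _ = r * (r * (c * s)) * s := by group
    _ = r * (r * (s * c)) * s := by rw [h3]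
    _ = r * r * s * (c * s) := by group
    _ = r * r * s * (s * c) := by rw [h3]
    _ = r ^ 2 * s ^ 2 * c := by rw [pow_two, pow_two]; group

theorem ct_comm_mul_left {G : Type*} [Group G] {a b w : G} (h : Commute ⁅b, w⁆ a) :
    ⁅a * b, w⁆ = ⁅b, w⁆ * ⁅a, w⁆ := by
  have h1 : a * ⁅b, w⁆ = ⁅b, w⁆ * a := h.symm
  calc ⁅a * b, w⁆ = a * ⁅b, w⁆ * (w * a⁻¹ * w⁻¹) := by
        rw [commutatorElement_def, commutatorElement_def]; group
    _ = ⁅b, w⁆ * (a * w * a⁻¹ * w⁻¹) := by rw [h1]; group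
    _ = ⁅b, w⁆ * ⁅a, w⁆ := by rw [← commutatorElement_def a w]

theorem ct_comm_mul_right {G : Type*} [Group G] {a v w : G} (h : Commute ⁅a, w⁆ v) :
    ⁅a, v * w⁆ = ⁅a, v⁆ * ⁅a, w⁆ := by
  have h1 : ⁅a, w⁆ * v = v * ⁅a, w⁆ := h
  calc ⁅a, v * w⁆ = (a * v * a⁻¹ * v⁻¹) * (v * ⁅a, w⁆ * v⁻¹) := by
        rw [commutatorElement_def, commutatorElement_def]; group
    _ = (a * v * a⁻¹ * v⁻¹) * ⁅a, w⁆ := by rw [← h1]; group
    _ = ⁅a, v⁆ * ⁅a, w⁆ := by rw [← commutatorElement_def a v]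

theorem two_nilpotent_of_real {G : Type*} [Group G] [Finite G]
    (h : ∀ x : G, (∃ k : ℕ, orderOf x = 2 ^ k) → IsConj x x⁻¹ → x ∈ Subgroup.center G) :
    Cfsg.HasNormalPComplement 2 G := by
  have : Fact (Nat.Prime 2) := ⟨Nat.prime_two⟩
  apply Transfer.hasNPC_of_frobenius
  intro Q hQ g hg hgo
  by_contra hgc
  set A := zpowers g with hA
  have hAc : (Nat.card A).Coprime 2 := by rw [hA, Nat.card_zpowers]; exact hgo
  have hQA : A ≤ normalizer (Q : Set G) := by rw [hA, zpowers_le]; exact hg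
  have hQne : ⁅Q, A⁆ ≠ ⊥ := by
    intro h1
    rw [commutator_eq_bot_iff_le_centralizer, le_centralizer_iff, hA, zpowers_le] at h1
    exact hgc h1
  obtain ⟨P, hPmem, hPmin⟩ := (Set.toFinite {U : Subgroup G | U ≤ Q ∧ A ≤ normalizer (U : Set G) ∧ ⁅U, A⁆ ≠ ⊥}).exists_minimal ⟨Q, le_rfl, hQA, hQne⟩
  obtain ⟨hPQ, hAP, hPne⟩ := hPmem
  have hP : IsPGroup 2 P := hQ.to_le hPQ
  have hmin : ∀ U : Subgroup G, U < P → A ≤ normalizer (U : Set G) → ⁅U, A⁆ = ⊥ := by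
    intro U hU hAU
    by_contra hne
    exact hU.not_ge (hPmin ⟨hU.le.trans hPQ, hAU, hne⟩ hU.le)
  have hAA : A ≤ normalizer (A : Set G) := le_normalizer
  have hord : ∀ x ∈ P, ∃ k : ℕ, orderOf x = 2 ^ k := by
    intro x hx
    obtain ⟨k, hk⟩ := IsPGroup.iff_orderOf.1 hP ⟨x, hx⟩
    exact ⟨k, by rw [← hk, Subgroup.orderOf_mk]⟩
  have hreal : ∀ x ∈ P, ∀ w : G, w * x * w⁻¹ = x⁻¹ → x ∈ P ⊓ centralizer (A : Set G) := by
    intro x hx w hw
    refine Subgroup.mem_inf.2 ⟨hx, ?_⟩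
    have h1 := h x (hord x hx) (isConj_iff.2 ⟨w, hw⟩)
    rw [mem_centralizer_iff]
    intro a _
    exact mem_center_iff.1 h1 a
  rcases Cop.min_structure hP hAP le_rfl hAA hAc hPne hmin with ⟨h1, h2⟩ | ⟨h1, h2, h3⟩
  · apply hPne
    have hPbot : P = ⊥ := by
      rw [eq_bot_iff, ← h2]
      intro x hx
      apply hreal x hx 1
      have := h1.2 x hx
      rw [pow_two] at this
      rw [one_mul, inv_one, mul_one]
      exact eq_inv_of_mul_eq_one_left this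
    rw [hPbot, commutator_bot_left]
  · set Z := P ⊓ centralizer (A : Set G) with hZ
    have hZP : Z ≤ P := inf_le_left
    have hZc : ∀ z ∈ Z, ∀ x ∈ P, Commute z x := by
      intro z hz x hx
      rw [← h3] at hz
      obtain ⟨z', hz', rfl⟩ := hz
      have := mem_center_iff.1 hz' ⟨x, hx⟩
      exact (congrArg Subtype.val this).symm
    have hZA : ∀ z ∈ Z, ∀ a ∈ A, Commute z a := by
      intro z hz a ha
      exact (mem_centralizer_iff.1 hz.2 a ha).symm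
    have hcomm : ∀ x ∈ P, ∀ y ∈ P, ⁅x, y⁆ ∈ Z := by
      intro x hx y hy
      rw [← h3, ← h1.2.2]
      exact ⟨⁅(⟨x, hx⟩ : P), ⟨y, hy⟩⁆, commutator_mem_commutator (mem_top _) (mem_top _), rfl⟩
    have hsq : ∀ x ∈ P, x ^ 2 ∈ Z := by
      intro x hx
      rw [← h3, ← h1.2.1]
      exact ⟨⟨x, hx⟩ ^ 2, Solv.pow_mem_frattini_of_pGroup hP ⟨x, hx⟩, rfl⟩
    have hZn : Z ≠ P := by
      intro h4
      apply h2
      constructor; constructor
      intro a b
      apply Subtype.ext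
      exact hZc a (by rw [h4]; exact a.2) b b.2
    obtain ⟨u, huP, huZ⟩ := SetLike.exists_of_lt (lt_of_le_of_ne hZP hZn)
    have hconj : ∀ a ∈ A, ∀ x ∈ P, a * x * a⁻¹ ∈ P := fun a ha x hx =>
      (mem_normalizer_iff.1 (hAP ha) x).1 hx
    -- the subgroup M
    let M : Subgroup G :=
      { carrier := {m | ∃ w ∈ P, ∃ z ∈ Z, m = ⁅u, w⁆ * z ^ 2}
        one_mem' := ⟨1, P.one_mem, 1, Z.one_mem, by simp⟩
        mul_mem' := by
          rintro _ _ ⟨w, hw, z, hz, rfl⟩ ⟨w', hw', z', hz', rfl⟩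
          refine ⟨w * w', P.mul_mem hw hw', z * z', Z.mul_mem hz hz', ?_⟩
          rw [ct_comm_mul_right (hZc _ (hcomm u huP w' hw') w hw), (hZc z hz z' (hZP hz')).mul_pow]
          have h4 : Commute (z ^ 2) ⁅u, w'⁆ := (hZc _ (Z.pow_mem hz 2) _ (hZP (hcomm u huP w' hw')))
          calc ⁅u, w⁆ * z ^ 2 * (⁅u, w'⁆ * z' ^ 2) = ⁅u, w⁆ * (z ^ 2 * ⁅u, w'⁆) * z' ^ 2 := by group
            _ = ⁅u, w⁆ * (⁅u, w'⁆ * z ^ 2) * z' ^ 2 := by rw [h4.eq]
            _ = _ := by group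
        inv_mem' := by
          rintro _ ⟨w, hw, z, hz, rfl⟩
          refine ⟨w⁻¹, P.inv_mem hw, z⁻¹, Z.inv_mem hz, ?_⟩
          have h4 : ⁅u, w⁻¹⁆ = ⁅u, w⁆⁻¹ := by
            have h5 := ct_comm_mul_right (hZc _ (hcomm u huP w⁻¹ (P.inv_mem hw)) w hw)
            rw [mul_inv_cancel, commutatorElement_one_right] at h5
            exact (inv_eq_of_mul_eq_one_right h5.symm).symm
          rw [h4, mul_inv_rev, inv_pow]
          exact (hZc _ (Z.inv_mem (Z.pow_mem hz 2)) _ (P.inv_mem (hZP (hcomm u huP w hw)))).eq }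
    have hMdef : ∀ m, m ∈ M ↔ ∃ w ∈ P, ∃ z ∈ Z, m = ⁅u, w⁆ * z ^ 2 := fun _ => Iff.rfl
    have hMZ : M ≤ Z := by
      rintro m hm
      obtain ⟨w, hw, z, hz, rfl⟩ := (hMdef m).1 hm
      exact Z.mul_mem (hcomm u huP w hw) (Z.pow_mem hz 2)
    have hMsq : ∀ z ∈ Z, z ^ 2 ∈ M := fun z hz => ⟨1, P.one_mem, z, hz, by simp⟩
    have hMu : ∀ w ∈ P, ⁅u, w⁆ ∈ M := fun w hw => ⟨w, hw, 1, Z.one_mem, by simp⟩
    clear_value M
    let R : Subgroup G :=
      { carrier := {r | r ∈ P ∧ ∀ w ∈ P, ⁅r, w⁆ ∈ M}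
        one_mem' := ⟨P.one_mem, fun w _ => by rw [commutatorElement_one_left]; exact M.one_mem⟩
        mul_mem' := by
          rintro r s ⟨hr, hr'⟩ ⟨hs, hs'⟩
          refine ⟨P.mul_mem hr hs, fun w hw => ?_⟩
          rw [ct_comm_mul_left (hZc _ (hcomm s hs w hw) r hr)]
          exact M.mul_mem (hs' w hw) (hr' w hw)
        inv_mem' := by
          rintro r ⟨hr, hr'⟩
          refine ⟨P.inv_mem hr, fun w hw => ?_⟩
          have h5 := ct_comm_mul_left (hZc _ (hcomm r⁻¹ (P.inv_mem hr) w hw) r hr)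
          rw [mul_inv_cancel, commutatorElement_one_left] at h5
          rw [← inv_eq_of_mul_eq_one_left h5.symm]
          exact M.inv_mem (hr' w hw) }
    have hRdef : ∀ r, r ∈ R ↔ r ∈ P ∧ ∀ w ∈ P, ⁅r, w⁆ ∈ M := fun _ => Iff.rfl
    clear_value R
    have hRP : R ≤ P := fun r hr => ((hRdef r).1 hr).1
    have hcc : ∀ r ∈ R, ∀ s ∈ R, Commute ⁅s, r⁆ r ∧ Commute ⁅s, r⁆ s := fun r hr s hs =>
      ⟨hZc _ (hcomm s (hRP hs) r (hRP hr)) r (hRP hr), hZc _ (hcomm s (hRP hs) r (hRP hr)) s (hRP hs)⟩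
    let K : Subgroup G :=
      { carrier := {r | r ∈ R ∧ r ^ 2 ∈ M}
        one_mem' := ⟨R.one_mem, by rw [one_pow]; exact M.one_mem⟩
        mul_mem' := by
          rintro r s ⟨hr, hr'⟩ ⟨hs, hs'⟩
          refine ⟨R.mul_mem hr hs, ?_⟩
          rw [ct_sq_mul (hcc r hr s hs).1 (hcc r hr s hs).2]
          exact M.mul_mem (M.mul_mem hr' hs') (((hRdef s).1 hs).2 r (hRP hr))
        inv_mem' := by
          rintro r ⟨hr, hr'⟩
          refine ⟨R.inv_mem hr, ?_⟩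
          rw [inv_pow]
          exact M.inv_mem hr' }
    have hKdef : ∀ r, r ∈ K ↔ r ∈ R ∧ r ^ 2 ∈ M := fun _ => Iff.rfl
    clear_value K
    have hRA' : ∀ a ∈ A, ∀ r ∈ R, a * r * a⁻¹ ∈ R := by
      intro a ha r hr
      refine (hRdef _).2 ⟨hconj a ha r (hRP hr), fun w hw => ?_⟩
      have hw' : a⁻¹ * w * a ∈ P := by
        have := hconj a⁻¹ (A.inv_mem ha) w hw
        rwa [inv_inv] at this
      have h6 : ⁅a * r * a⁻¹, w⁆ = a * ⁅r, a⁻¹ * w * a⁆ * a⁻¹ := by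
        rw [commutatorElement_def, commutatorElement_def]; group
      have h7 : Commute ⁅r, a⁻¹ * w * a⁆ a := hZA _ (hcomm r (hRP hr) _ hw') a ha
      rw [h6, ← h7.eq, mul_inv_cancel_right]
      exact ((hRdef r).1 hr).2 _ hw'
    have hRA : A ≤ normalizer (R : Set G) := Cop.normalizer_le_of_forall hRA'
    have hcop : (Nat.card A).Coprime (Nat.card R) := Cop.coprime_card_of_isPGroup (hP.to_le hRP) hAc
    have hsol : Group.IsSolvable A ∨ Group.IsSolvable R := by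
      right
      have := (hP.to_le hRP).isNilpotent
      infer_instance
    have hR := Cop.commutator_sup_centralizer hRA hcop hsol
    have hRK : R ≤ K := by
      rw [← hR]
      apply sup_le
      · rw [commutator_le]
        intro r hr a ha
        have hs : a * r⁻¹ * a⁻¹ ∈ R := hRA' a ha _ (R.inv_mem hr)
        have h6 : ⁅r, a⁆ = r * (a * r⁻¹ * a⁻¹) := by rw [commutatorElement_def]; group
        rw [h6]
        refine (hKdef _).2 ⟨R.mul_mem hr hs, ?_⟩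
        rw [ct_sq_mul (hcc r hr _ hs).1 (hcc r hr _ hs).2]
        apply M.mul_mem ?_ (((hRdef _).1 hs).2 r (hRP hr))
        have h7 : (a * r⁻¹ * a⁻¹) ^ 2 = (r ^ 2)⁻¹ := by
          rw [conj_pow]
          have h8 : Commute (r⁻¹ ^ 2) a := hZA _ (hsq _ (P.inv_mem (hRP hr))) a ha
          rw [← h8.eq, mul_inv_cancel_right, inv_pow]
        rw [h7, mul_inv_cancel]
        exact M.one_mem
      · rintro r ⟨hr, hr'⟩
        exact (hKdef _).2 ⟨hr, hMsq r ⟨hRP hr, hr'⟩⟩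
    have huR : u ∈ R := (hRdef _).2 ⟨huP, hMu⟩
    obtain ⟨w, hw, z, hz, hu2⟩ := (hMdef _).1 ((hKdef _).1 (hRK huR)).2
    apply huZ
    have hvP : u * z⁻¹ ∈ P := P.mul_mem huP (P.inv_mem (hZP hz))
    have hv : u * z⁻¹ ∈ Z := by
      apply hreal _ hvP w⁻¹
      have hzu : Commute z⁻¹ u := hZc _ (Z.inv_mem hz) u huP
      have hzw : Commute z⁻¹ w := hZc _ (Z.inv_mem hz) w hw
      have h9 : (u * z⁻¹) ^ 2 = ⁅u * z⁻¹, w⁆ := by
        have h10 : ⁅z⁻¹, w⁆ = 1 := commutatorElement_eq_one_iff_commute.2 hzw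
        rw [ct_comm_mul_left (by rw [h10]; exact Commute.one_left u), h10, one_mul, hzu.symm.mul_pow, hu2,
          inv_pow, mul_inv_cancel_right]
      rw [commutatorElement_def, pow_two] at h9
      have h11 : u * z⁻¹ = w * (u * z⁻¹)⁻¹ * w⁻¹ := by
        apply mul_left_cancel (a := u * z⁻¹)
        rw [h9]; group
      calc w⁻¹ * (u * z⁻¹) * w⁻¹⁻¹ = w⁻¹ * (w * (u * z⁻¹)⁻¹ * w⁻¹) * w⁻¹⁻¹ := by rw [← h11]
        _ = _ := by group
    have := Z.mul_mem hv hz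
    rwa [inv_mul_cancel_right] at this

/-- a real element is inverted by a 2-element -/
theorem exists_two_inverting {G : Type*} [Group G] [Finite G] {x : G} (h : IsConj x x⁻¹) :
    ∃ g : G, (∃ k : ℕ, orderOf g = 2 ^ k) ∧ g * x * g⁻¹ = x⁻¹ := by
  obtain ⟨g, hg⟩ := isConj_iff.1 h
  obtain ⟨k, m, hm, hkm⟩ := Nat.exists_eq_two_pow_mul_odd (orderOf_pos g).ne'
  have h0 : g * (g * x * g⁻¹) * g⁻¹ = x := by
    calc g * (g * x * g⁻¹) * g⁻¹ = (g * x * g⁻¹)⁻¹ := by rw [hg]; simpa [mul_assoc] using congrArg (·⁻¹) hg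
      _ = x := by rw [hg, inv_inv]
  have h1 : ∀ n : ℕ, g ^ (2 * n) * x * (g ^ (2 * n))⁻¹ = x := by
    intro n
    induction n with
    | zero => simp
    | succ n ih =>
      have h2 : g ^ (2 * (n + 1)) = g ^ (2 * n) * g * g := by
        rw [mul_add, mul_one, pow_add, pow_two, ← mul_assoc]
      calc g ^ (2 * (n + 1)) * x * (g ^ (2 * (n + 1)))⁻¹
          = g ^ (2 * n) * (g * (g * x * g⁻¹) * g⁻¹) * (g ^ (2 * n))⁻¹ := by rw [h2]; group
        _ = g ^ (2 * n) * x * (g ^ (2 * n))⁻¹ := by rw [h0]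
        _ = x := ih
  refine ⟨g ^ m, ⟨k, ?_⟩, ?_⟩
  · rw [orderOf_pow, hkm, Nat.gcd_eq_right (Dvd.intro_left _ rfl), Nat.mul_div_cancel _ hm.pos]
  · obtain ⟨n, rfl⟩ := hm
    calc g ^ (2 * n + 1) * x * (g ^ (2 * n + 1))⁻¹ = g * (g ^ (2 * n) * x * (g ^ (2 * n))⁻¹) * g⁻¹ := by
          rw [pow_succ']; group
      _ = x⁻¹ := by rw [h1, hg]

/-- the class of a nontrivial real element of odd order has even size -/
theorem two_dvd_index_of_real {G : Type*} [Group G] [Finite G] {x : G} (h : IsConj x x⁻¹) (hne : x ≠ x⁻¹) :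
    2 ∣ (Subgroup.centralizer ({x} : Set G)).index := by
  have h1 := H80.card_extCentralizer h hne
  have h2 := H80.centralizer_le_extCentralizer x
  have h3 := Subgroup.relIndex_mul_index h2
  have h4' : (Subgroup.centralizer ({x} : Set G)).relIndex (H80.extCentralizer x) *
      Nat.card (Subgroup.centralizer ({x} : Set G)) = Nat.card (H80.extCentralizer x) := by
    rw [mul_comm]
    have h5 := Subgroup.relIndex_mul_relIndex ⊥ (Subgroup.centralizer ({x} : Set G)) (H80.extCentralizer x) bot_le h2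
    rwa [Subgroup.relIndex_bot_left, Subgroup.relIndex_bot_left] at h5
  rw [h1] at h4'
  have h5 := Nat.eq_of_mul_eq_mul_right Nat.card_pos h4'
  rw [← h3, h5]
  exact Dvd.intro _ rfl

/-- a real 2-element lies, together with a 2-element inverting it, in a conjugate of a given Sylow
2-subgroup. -/
theorem exists_conj_real {G : Type*} [Group G] [Finite G] {u : G} (hu : ∃ k : ℕ, orderOf u = 2 ^ k)
    (h : IsConj u u⁻¹) (S : Sylow 2 G) :
    ∃ t g : G, t * u * t⁻¹ ∈ (S : Subgroup G) ∧ g ∈ (S : Subgroup G) ∧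
      g * (t * u * t⁻¹) * g⁻¹ = (t * u * t⁻¹)⁻¹ := by
  have : Fact (Nat.Prime 2) := ⟨Nat.prime_two⟩
  obtain ⟨g, hg, hgu⟩ := exists_two_inverting h
  have hpu : IsPGroup 2 (zpowers u) := by
    rw [IsPGroup.iff_card]
    obtain ⟨k, hk⟩ := hu
    exact ⟨k, by rw [Nat.card_zpowers, hk]⟩
  have hpg : IsPGroup 2 (zpowers g) := by
    rw [IsPGroup.iff_card]
    obtain ⟨k, hk⟩ := hg
    exact ⟨k, by rw [Nat.card_zpowers, hk]⟩
  have hn : zpowers g ≤ normalizer (zpowers u : Set G) := by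
    rw [zpowers_le]
    have h2 : ∀ x : G, x ∈ zpowers u → g * x * g⁻¹ ∈ zpowers u := by
      rintro _ ⟨n, rfl⟩
      refine ⟨-n, ?_⟩
      change u ^ (-n) = g * u ^ n * g⁻¹
      rw [← conj_zpow, hgu, inv_zpow, zpow_neg]
    have h3 : ∀ x : G, x ∈ zpowers u → g⁻¹ * x * g ∈ zpowers u := by
      rintro _ ⟨n, rfl⟩
      refine ⟨-n, ?_⟩
      change u ^ (-n) = g⁻¹ * u ^ n * g
      have h4 : g⁻¹ * u⁻¹ * g = u := by rw [← hgu]; group
      have h5 : g⁻¹ * u * g⁻¹⁻¹ = u⁻¹ := by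
        rw [inv_inv]
        calc g⁻¹ * u * g = (g⁻¹ * u⁻¹ * g)⁻¹ := by group
          _ = u⁻¹ := by rw [h4]
      calc u ^ (-n) = (g⁻¹ * u * g⁻¹⁻¹) ^ n := by rw [h5, inv_zpow, zpow_neg]
        _ = g⁻¹ * u ^ n * g⁻¹⁻¹ := conj_zpow
        _ = g⁻¹ * u ^ n * g := by rw [inv_inv]
    rw [mem_normalizer_iff]
    intro x
    refine ⟨h2 x, fun h5 => ?_⟩
    have h6 := h3 _ h5
    have h7 : g⁻¹ * (g * x * g⁻¹) * g = x := by group
    rwa [h7] at h6
  obtain ⟨T, hT⟩ := (IsPGroup.to_sup_of_normal_right' hpg hpu hn).exists_le_sylow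
  obtain ⟨t, ht⟩ := MulAction.exists_smul_eq G T S
  have hmem : ∀ y ∈ (T : Subgroup G), t * y * t⁻¹ ∈ (S : Subgroup G) := by
    intro y hy
    rw [← ht, Sylow.coe_subgroup_smul]
    have := Subgroup.smul_mem_pointwise_smul y (MulAut.conj t) (T : Subgroup G) hy
    simpa [MulAut.smul_def] using this
  refine ⟨t, t * g * t⁻¹, hmem u (hT (mem_sup_right (mem_zpowers u))), hmem g (hT (mem_sup_left (mem_zpowers g))), ?_⟩
  calc t * g * t⁻¹ * (t * u * t⁻¹) * (t * g * t⁻¹)⁻¹ = t * (g * u * g⁻¹) * t⁻¹ := by group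
    _ = (t * u * t⁻¹)⁻¹ := by rw [hgu]; group

end Cfsg.Agent.FT
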